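import Cfsg.Agent.Screen.CosetEnum.Fi23Ord.F23L3.Data

/-!
# Checking the table
-/

set_option autoImplicit false
set_option maxRecDepth 20000

namespace Cfsg.Agent.Screen.CosetEnum.Fi23Ord.F23L3

open Cfsg.Agent.Screen.CosetEnum

set_option Elab.async false

theorem fcheck24 : blocks tbl.toCert 40 960 = true := by decide +kernel

theorem fcheck25 : blocks tbl.toCert 40 1000 = true := by decide +kernel

theorem fcheck26 : blocks tbl.toCert 40 1040 = true := by decide +kernel

theorem fcheck27 : blocks tbl.toCert 40 1080 = true := by decide +kernel

theorem fcheck28 : blocks tbl.toCert 40 1120 = true := by decide +kernel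

theorem fcheck29 : blocks tbl.toCert 40 1160 = true := by decide +kernel

theorem fcheck30 : blocks tbl.toCert 40 1200 = true := by decide +kernel

theorem fcheck31 : blocks tbl.toCert 16 1240 = true := by decide +kernel

end Cfsg.Agent.Screen.CosetEnum.Fi23Ord.F23L3
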