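import Cfsg.Agent.Screen.CosetEnum.Fi23Ord.F23L3.Data
import Cfsg.Agent.Screen.CosetEnum.Fi23Ord.F23L3.FCheck0
import Cfsg.Agent.Screen.CosetEnum.Fi23Ord.F23L3.FCheck1
import Cfsg.Agent.Screen.CosetEnum.Fi23Ord.F23L3.RCheck0

/-!
# The table is checked
-/

set_option autoImplicit false
set_option maxRecDepth 20000

namespace Cfsg.Agent.Screen.CosetEnum.Fi23Ord.F23L3

open Cfsg.Agent.Screen.CosetEnum

theorem checked : tbl.Checked where
  facts b hb := by
    have hb' : b < 1256 := by
      have : tbl.toCert.nf = 30127 := rfl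
      omega
    by_cases h0 : b < 40
    · exact blocks_spec _ _ _ fcheck0 b (by omega) h0
    by_cases h1 : b < 80
    · exact blocks_spec _ _ _ fcheck1 b (by omega) h1
    by_cases h2 : b < 120
    · exact blocks_spec _ _ _ fcheck2 b (by omega) h2
    by_cases h3 : b < 160
    · exact blocks_spec _ _ _ fcheck3 b (by omega) h3
    by_cases h4 : b < 200
    · exact blocks_spec _ _ _ fcheck4 b (by omega) h4
    by_cases h5 : b < 240
    · exact blocks_spec _ _ _ fcheck5 b (by omega) h5
    by_cases h6 : b < 280
    · exact blocks_spec _ _ _ fcheck6 b (by omega) h6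
    by_cases h7 : b < 320
    · exact blocks_spec _ _ _ fcheck7 b (by omega) h7
    by_cases h8 : b < 360
    · exact blocks_spec _ _ _ fcheck8 b (by omega) h8
    by_cases h9 : b < 400
    · exact blocks_spec _ _ _ fcheck9 b (by omega) h9
    by_cases h10 : b < 440
    · exact blocks_spec _ _ _ fcheck10 b (by omega) h10
    by_cases h11 : b < 480
    · exact blocks_spec _ _ _ fcheck11 b (by omega) h11
    by_cases h12 : b < 520
    · exact blocks_spec _ _ _ fcheck12 b (by omega) h12
    by_cases h13 : b < 560
    · exact blocks_spec _ _ _ fcheck13 b (by omega) h13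
    by_cases h14 : b < 600
    · exact blocks_spec _ _ _ fcheck14 b (by omega) h14
    by_cases h15 : b < 640
    · exact blocks_spec _ _ _ fcheck15 b (by omega) h15
    by_cases h16 : b < 680
    · exact blocks_spec _ _ _ fcheck16 b (by omega) h16
    by_cases h17 : b < 720
    · exact blocks_spec _ _ _ fcheck17 b (by omega) h17
    by_cases h18 : b < 760
    · exact blocks_spec _ _ _ fcheck18 b (by omega) h18
    by_cases h19 : b < 800
    · exact blocks_spec _ _ _ fcheck19 b (by omega) h19
    by_cases h20 : b < 840
    · exact blocks_spec _ _ _ fcheck20 b (by omega) h20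
    by_cases h21 : b < 880
    · exact blocks_spec _ _ _ fcheck21 b (by omega) h21
    by_cases h22 : b < 920
    · exact blocks_spec _ _ _ fcheck22 b (by omega) h22
    by_cases h23 : b < 960
    · exact blocks_spec _ _ _ fcheck23 b (by omega) h23
    by_cases h24 : b < 1000
    · exact blocks_spec _ _ _ fcheck24 b (by omega) h24
    by_cases h25 : b < 1040
    · exact blocks_spec _ _ _ fcheck25 b (by omega) h25
    by_cases h26 : b < 1080
    · exact blocks_spec _ _ _ fcheck26 b (by omega) h26
    by_cases h27 : b < 1120
    · exact blocks_spec _ _ _ fcheck27 b (by omega) h27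
    by_cases h28 : b < 1160
    · exact blocks_spec _ _ _ fcheck28 b (by omega) h28
    by_cases h29 : b < 1200
    · exact blocks_spec _ _ _ fcheck29 b (by omega) h29
    by_cases h30 : b < 1240
    · exact blocks_spec _ _ _ fcheck30 b (by omega) h30
    by_cases h31 : b < 1256
    · exact blocks_spec _ _ _ fcheck31 b (by omega) h31
    omega
  rows c hc := by
    have hc' : c < 3159 := hc
    by_cases h0 : c < 150
    · exact Tab.rows_spec _ _ rcheck0 c (by omega) h0 hc
    by_cases h1 : c < 300
    · exact Tab.rows_spec _ _ rcheck1 c (by omega) h1 hc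
    by_cases h2 : c < 450
    · exact Tab.rows_spec _ _ rcheck2 c (by omega) h2 hc
    by_cases h3 : c < 600
    · exact Tab.rows_spec _ _ rcheck3 c (by omega) h3 hc
    by_cases h4 : c < 750
    · exact Tab.rows_spec _ _ rcheck4 c (by omega) h4 hc
    by_cases h5 : c < 900
    · exact Tab.rows_spec _ _ rcheck5 c (by omega) h5 hc
    by_cases h6 : c < 1050
    · exact Tab.rows_spec _ _ rcheck6 c (by omega) h6 hc
    by_cases h7 : c < 1200
    · exact Tab.rows_spec _ _ rcheck7 c (by omega) h7 hc
    by_cases h8 : c < 1350
    · exact Tab.rows_spec _ _ rcheck8 c (by omega) h8 hc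
    by_cases h9 : c < 1500
    · exact Tab.rows_spec _ _ rcheck9 c (by omega) h9 hc
    by_cases h10 : c < 1650
    · exact Tab.rows_spec _ _ rcheck10 c (by omega) h10 hc
    by_cases h11 : c < 1800
    · exact Tab.rows_spec _ _ rcheck11 c (by omega) h11 hc
    by_cases h12 : c < 1950
    · exact Tab.rows_spec _ _ rcheck12 c (by omega) h12 hc
    by_cases h13 : c < 2100
    · exact Tab.rows_spec _ _ rcheck13 c (by omega) h13 hc
    by_cases h14 : c < 2250
    · exact Tab.rows_spec _ _ rcheck14 c (by omega) h14 hc
    by_cases h15 : c < 2400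
    · exact Tab.rows_spec _ _ rcheck15 c (by omega) h15 hc
    by_cases h16 : c < 2550
    · exact Tab.rows_spec _ _ rcheck16 c (by omega) h16 hc
    by_cases h17 : c < 2700
    · exact Tab.rows_spec _ _ rcheck17 c (by omega) h17 hc
    by_cases h18 : c < 2850
    · exact Tab.rows_spec _ _ rcheck18 c (by omega) h18 hc
    by_cases h19 : c < 3000
    · exact Tab.rows_spec _ _ rcheck19 c (by omega) h19 hc
    by_cases h20 : c < 3150
    · exact Tab.rows_spec _ _ rcheck20 c (by omega) h20 hc
    by_cases h21 : c < 3159
    · exact Tab.rows_spec _ _ rcheck21 c (by omega) h21 hc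
    omega
  base := by decide +kernel

end Cfsg.Agent.Screen.CosetEnum.Fi23Ord.F23L3
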